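import Cfsg.Agent.H777.Th3.SylH

/-!
# The normalizer of `V`, second part (helper777)
-/

set_option autoImplicit false
set_option linter.unusedSimpArgs false
set_option linter.unusedVariables false
set_option synthInstance.maxHeartbeats 400000
set_option synthInstance.maxSize 2000

namespace Cfsg.Agent.H777.Th3

/-- action of `x0` on `T / U` -/
def sg (q : Q4) : Q4 := (q.2.1, 2 * q.1 + 2 * q.2.1, 2 * q.1 + q.2.1 + q.2.2.1, 2 * q.1 + 2 * q.2.1 + q.2.2.2)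

theorem sg_basis : ∀ q : Q4, ∀ e ∈ ([(1, 0, 0, 0, 0), (0, 1, 0, 0, 0), (0, 0, 1, 0, 0), (0, 0, 0, 1, 0), (0, 0, 0, 0, 1)] : List V5),
    X (Tq q (X (X e))) = Tq (sg q) e := by decide +kernel

theorem add_ext {f g : V5 → V5} (hf : ∀ x y, f (x + y) = f x + f y) (hg : ∀ x y, g (x + y) = g x + g y)
    (h : ∀ e ∈ ([(1, 0, 0, 0, 0), (0, 1, 0, 0, 0), (0, 0, 1, 0, 0), (0, 0, 0, 1, 0), (0, 0, 0, 0, 1)] : List V5),
      f e = g e) (e : V5) : f e = g e := by
  have k : ∀ (f : V5 → V5), (∀ x y, f (x + y) = f x + f y) → ∀ (n : ℕ) (e : V5), f (n • e) = n • f e := by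
    intro f hf n e
    let F : V5 →+ V5 := ⟨⟨f, by
      have := hf 0 0
      rw [add_zero] at this
      exact left_eq_add.1 this⟩, hf⟩
    exact map_nsmul F n e
  have h1 := h _ (by simp : ((1, 0, 0, 0, 0) : V5) ∈ _)
  have h2 := h _ (by simp : ((0, 1, 0, 0, 0) : V5) ∈ _)
  have h3 := h _ (by simp : ((0, 0, 1, 0, 0) : V5) ∈ _)
  have h4 := h _ (by simp : ((0, 0, 0, 1, 0) : V5) ∈ _)
  have h5 := h _ (by simp : ((0, 0, 0, 0, 1) : V5) ∈ _)
  rw [Dat.decomp e]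
  simp only [hf, hg, k f hf, k g hg, h1, h2, h3, h4, h5]

theorem sg_eq (q : Q4) (e : V5) : X (Tq q (X (X e))) = Tq (sg q) e := by
  refine add_ext (f := fun e => X (Tq q (X (X e)))) (g := fun e => Tq (sg q) e) ?_ ?_ (sg_basis q) e
  · intro x y
    simp only [X_add, Tq, T_add]
  · intro x y
    simp only [Tq, T_add]

theorem dec_sg1 : ∀ q : Q4, (q.1 ≠ 0 ∨ q.2.1 ≠ 0) → sg q - q ≠ 0 ∧
    ((sg q - q).1 = 0 ∧ (sg q - q).2.1 = 0 ∨
      (sg (sg q - q) - (sg q - q) ≠ 0 ∧ (sg (sg q - q) - (sg q - q)).1 = 0 ∧ (sg (sg q - q) - (sg q - q)).2.1 = 0)) := by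
  decide +kernel

theorem dec_ker : ∀ c d : ZMod 3, (c, d) ≠ (0, 0) →
    (Finset.univ.filter (fun q : Q4 => q = 0 ∨ ∀ y : ZMod 3 × ZMod 3 × ZMod 3, L q y = 0 ↔ L (0, 0, c, d) y = 0)).card < 9 := by
  decide +kernel

namespace Dat

variable {G : Type*} [Group G] {D : Dat G}

theorem qT_conj_x0 (h1 : D.u1 ≠ 1) {x : G} (hx : x ∈ D.Tg) : D.qT (D.x0⁻¹ * x * D.x0) = sg (D.qT x) := by
  refine qT_eq h1 (D.conj_x0_Tg x hx) ?_
  have h2 := act_x0 (D := D)
  have h3 : D.Act D.x0⁻¹ (fun e => X (X e)) := by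
    intro e
    have h4 := (act_x0 (D := D)).powX 2 e
    have h5 : D.x0⁻¹ = D.x0 ^ 2 := by
      rw [inv_eq_iff_mul_eq_one, ← pow_succ', D.p_x0]
    rw [h5]
    exact h4
  exact ((h3.mul (qT_spec hx)).mul h2).congr (fun e => sg_eq _ e)

/-- There is no normal subgroup of order `3 ^ 7` above `U` with a common fixed space of order 27. -/
theorem no_normal (h1 : D.u1 ≠ 1) {M : Subgroup G} (hM : M ≤ D.Sg) (hn : ∀ x ∈ M, D.x0⁻¹ * x * D.x0 ∈ M)
    (hUM : D.U ≤ M) (hc : Nat.card M = 3 ^ 7) (P : G → Prop)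
    (hP : ∀ x ∈ M, x ∉ D.U → ∀ e ∈ D.U, (x * e = e * x ↔ P e))
    (B : Subgroup G) (hB : ∀ x, x ∈ B ↔ x ∈ D.U ∧ P x) (hBc : Nat.card B = 27) : False := by
  have hfS := finite_Sg h1
  have hBU : B ⊓ D.U = B := inf_eq_left.2 (fun x hx => ((hB x).1 hx).1)
  have hMT : M ≤ D.Tg := by
    intro x hx
    by_contra hxT
    have hxU : x ∉ D.U := fun h => hxT (D.U_le_Tg h)
    have h2 := card_fix_outside h1 (hM hx) hxT (A := B)
      (fun a ha haU => (hP x hx hxU a haU).2 ((hB a).1 ha).2)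
    rw [hBU, hBc] at h2
    norm_num at h2
  -- a central element modulo `U`
  have hstep : ∀ x ∈ M, x⁻¹ * (D.x0⁻¹ * x * D.x0) ∈ M ∧
      D.qT (x⁻¹ * (D.x0⁻¹ * x * D.x0)) = sg (D.qT x) - D.qT x := by
    intro x hx
    refine ⟨M.mul_mem (M.inv_mem hx) (hn x hx), ?_⟩
    rw [qT_mul h1 (D.Tg.inv_mem (hMT hx)) (D.conj_x0_Tg x (hMT hx)), qT_inv h1 (hMT hx), qT_conj_x0 h1 (hMT hx)]
    abel
  have hcardM : ∀ s : Finset Q4, (∀ a ∈ M, D.qT a ∈ s) → 9 ≤ s.card := by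
    intro s hs
    have h2 := card_le_of_Tg h1 hMT s hs
    have h3 : M ⊓ D.U = D.U := inf_eq_right.2 hUM
    rw [h3, card_U h1, hc] at h2
    by_contra hcon
    push Not at hcon
    have : 3 ^ 5 * s.card ≤ 3 ^ 5 * 8 := Nat.mul_le_mul_left _ (by omega)
    norm_num at this h2
    omega
  have hex : ∃ x ∈ M, D.qT x ≠ 0 ∧ (D.qT x).1 = 0 ∧ (D.qT x).2.1 = 0 := by
    have h2 : ∃ x ∈ M, D.qT x ≠ 0 := by
      by_contra hcon
      push Not at hcon
      have := hcardM {0} (fun a ha => by rw [hcon a ha]; exact Finset.mem_singleton_self _)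
      rw [Finset.card_singleton] at this
      omega
    obtain ⟨x, hx, hx0⟩ := h2
    by_cases hx1 : (D.qT x).1 = 0 ∧ (D.qT x).2.1 = 0
    · exact ⟨x, hx, hx0, hx1⟩
    · have hx2 : (D.qT x).1 ≠ 0 ∨ (D.qT x).2.1 ≠ 0 := by
        by_contra hcon
        push Not at hcon
        exact hx1 hcon
      obtain ⟨k1, k2⟩ := dec_sg1 _ hx2
      obtain ⟨m1, m2⟩ := hstep x hx
      rcases k2 with k2 | ⟨k3, k4⟩
      · exact ⟨_, m1, by rw [m2]; exact k1, by rw [m2]; exact k2⟩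
      · obtain ⟨m3, m4⟩ := hstep _ m1
        rw [m2] at m4
        exact ⟨_, m3, by rw [m4]; exact k3, by rw [m4]; exact k4⟩
  obtain ⟨x, hx, hx0, hxa, hxb⟩ := hex
  have hxq : D.qT x = (0, 0, (D.qT x).2.2.1, (D.qT x).2.2.2) := Prod.ext hxa (Prod.ext hxb rfl)
  have hne : ((D.qT x).2.2.1, (D.qT x).2.2.2) ≠ ((0 : ZMod 3), (0 : ZMod 3)) := by
    intro h
    apply hx0
    rw [hxq]
    rw [Prod.mk.injEq] at h
    rw [h.1, h.2]
    rfl
  have hker := dec_ker _ _ hne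
  rw [← hxq] at hker
  have hnU : ∀ {a : G}, a ∈ M → D.qT a ≠ 0 → a ∉ D.U := fun ha h h' => h ((mem_U_iff_qT h1 (hMT ha)).1 h')
  have h9 := hcardM (Finset.univ.filter (fun q : Q4 => q = 0 ∨ ∀ y : ZMod 3 × ZMod 3 × ZMod 3, L q y = 0 ↔ L (D.qT x) y = 0))
    (fun a ha => by
      refine Finset.mem_filter.2 ⟨Finset.mem_univ _, ?_⟩
      by_cases ha0 : D.qT a = 0
      · exact Or.inl ha0
      · right
        intro y
        have k1 := fix_iff h1 (hMT ha) (0, 0, y)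
        have k2 := fix_iff h1 (hMT hx) (0, 0, y)
        show L (D.qT a) y = 0 ↔ L (D.qT x) y = 0
        rw [hP a ha (hnU ha ha0) _ (D.uu_mem _)] at k1
        rw [hP x hx (hnU hx hx0) _ (D.uu_mem _)] at k2
        exact k1.symm.trans k2)
  omega

/-- the intersection of `U` and `V` -/
theorem card_W (h1 : D.u1 ≠ 1) : Nat.card (D.Vs ⊓ D.U : Subgroup G) = 27 := by
  rw [card_inf_U h1]
  have h2 : ∀ e : V5, D.uu e ∈ D.Vs ↔ e.2.2.2 = 0 := fun e =>
    mem_Vs_iff h1 (m := (e.2.2.2, 0)) ⟨e, rfl, by rw [vab_zero, mul_one]⟩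
  rw [Nat.card_congr (Equiv.subtypeEquivRight h2)]
  rw [Nat.card_eq_fintype_card]
  decide +kernel

/-- **`N` is a Sylow 3-subgroup of the normalizer of `V`.** -/
theorem not_dvd_norm (h1 : D.u1 ≠ 1) [Finite G] (h11 : ¬ 3 ^ 11 ∣ Nat.card G)
    (hUV : ∀ g : G, ¬ ∀ x, x ∈ D.U ↔ g⁻¹ * x * g ∈ D.Vs) {L : Subgroup G} (hNL : D.N ≤ L)
    (hL : ∀ g ∈ L, ∀ x, x ∈ D.Vs ↔ g⁻¹ * x * g ∈ D.Vs) : ¬ 3 ^ 8 ∣ Nat.card L := by
  have : Fact (Nat.Prime 3) := ⟨Nat.prime_three⟩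
  intro hd
  obtain ⟨X, hNX, hXL, hXc⟩ := exists_succ (p := 3) hNL (card_N h1) hd
  have hXN : ∀ x ∈ X, ∀ y, y ∈ D.N ↔ x⁻¹ * y * x ∈ D.N := fun x hx y =>
    le_normalizer_of_succ hNX (card_N h1) hXc hx
  have hXV : ∀ x ∈ X, ∀ y, y ∈ D.Vs ↔ x⁻¹ * y * x ∈ D.Vs := fun x hx => hL x (hXL hx)
  -- facts on a conjugate of an abelian subgroup
  have hcjab : ∀ (A : Subgroup G) (g : G), (∀ x ∈ A, ∀ y ∈ A, x * y = y * x) →
      ∀ x ∈ cj A g, ∀ y ∈ cj A g, x * y = y * x := by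
    intro A g hA x hx y hy
    have h2 := hA _ hx _ hy
    have h3 : g * x * g⁻¹ * (g * y * g⁻¹) = g * (x * y) * g⁻¹ := by group
    have h4 : g * y * g⁻¹ * (g * x * g⁻¹) = g * (y * x) * g⁻¹ := by group
    change g * x * g⁻¹ * (g * y * g⁻¹) = g * y * g⁻¹ * (g * x * g⁻¹) at h2
    rw [h3, h4] at h2
    exact mul_left_cancel (mul_right_cancel h2)
  have hXU : ∀ x ∈ X, ∀ y, y ∈ D.U ↔ x⁻¹ * y * x ∈ D.U := by
    intro x hx
    by_contra hcon
    have hne : cj D.U x ≠ D.U := by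
      intro h
      apply hcon
      intro y
      have h2 : x⁻¹ * y * x ∈ cj D.U x ↔ x⁻¹ * y * x ∈ D.U := by rw [h]
      rw [mem_cj] at h2
      have e1 : x * (x⁻¹ * y * x) * x⁻¹ = y := by group
      rw [e1] at h2
      exact h2
    have hle : cj D.U x ≤ D.N := by
      intro y hy
      rw [mem_cj] at hy
      rw [hXN x⁻¹ (X.inv_mem hx), inv_inv]
      exact D.U_le_N hy
    obtain ⟨t, ht, h2⟩ := ab_conj h1 hle (hcjab _ _ (fun x hx y hy => comm_U hx hy))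
      (by rw [card_cj, card_U h1]) hne
    apply hUV (x * t)
    intro y
    have h3 := h2 (x⁻¹ * y * x)
    rw [mem_cj] at h3
    have e1 : x * (x⁻¹ * y * x) * x⁻¹ = y := by group
    have e2 : t⁻¹ * (x⁻¹ * y * x) * t = (x * t)⁻¹ * y * (x * t) := by group
    rw [e1, e2] at h3
    exact h3
  -- the group `L' = N(U) ∩ N(N)`
  set L' : Subgroup G := Subgroup.normalizer (D.U : Set G) ⊓ Subgroup.normalizer (D.N : Set G) with hL'
  have memL' : ∀ g, g ∈ L' ↔ (∀ y, y ∈ D.U ↔ g⁻¹ * y * g ∈ D.U) ∧ (∀ y, y ∈ D.N ↔ g⁻¹ * y * g ∈ D.N) := by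
    intro g
    rw [hL', Subgroup.mem_inf, Subgroup.mem_normalizer_iff'', Subgroup.mem_normalizer_iff'']
  have hXL' : X ≤ L' := fun x hx => (memL' x).2 ⟨hXU x hx, hXN x hx⟩
  have hfU : Finite D.U := inferInstance
  have hTL' : D.Tg ≤ L' := fun t ht => (memL' t).2 ⟨by
    obtain ⟨a, b, c, d, ha⟩ := act_of_mem_Tg ht
    exact conj_iff le_rfl ha.conj_U, conj_iff le_rfl (fun y hy => conj_N h1 ht hy)⟩
  by_cases h10 : 3 ^ (9 + 1) ∣ Nat.card L'
  · obtain ⟨K, hTK, hKL, hKc⟩ := exists_succ (p := 3) hTL' (card_Tg h1) h10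
    -- conjugate to `S` in the normalizer of `U`
    set M := Subgroup.normalizer (D.U : Set G) with hM
    have hSM : D.Sg ≤ M := by
      intro s hs
      rw [hM, Subgroup.mem_normalizer_iff'']
      obtain ⟨a, b, c, d, f, ha⟩ := act_of_mem_Sg hs
      exact conj_iff le_rfl ha.conj_U
    have hKM : K ≤ M := hKL.trans inf_le_left
    obtain ⟨l, hl, hlK⟩ := sylow_conj (p := 3) hKM hSM (IsPGroup.of_card hKc) (card_Sg h1)
      (fun h => h11 (h.trans (Subgroup.card_subgroup_dvd_card M)))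
    have hKS : ∀ x, x ∈ K ↔ l⁻¹ * x * l ∈ D.Sg := conj_iff (by rw [card_Sg h1, hKc]) hlK
    have hlU := Subgroup.mem_normalizer_iff''.1 hl
    refine no_normal h1 (M := cj D.N l) ?_ ?_ ?_ (by rw [card_cj, card_N h1])
      (fun e => l * e * l⁻¹ ∈ D.Vs ⊓ D.U) ?_ (cj (D.Vs ⊓ D.U) l) ?_ (by rw [card_cj, card_W h1])
    · intro x hx
      rw [mem_cj] at hx
      have h2 := (hKS _).1 (hTK (D.N_le_Tg hx))
      have e1 : l⁻¹ * (l * x * l⁻¹) * l = x := by group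
      rw [e1] at h2
      exact h2
    · intro x hx
      rw [mem_cj] at hx ⊢
      have h3 : l * D.x0 * l⁻¹ ∈ K := by
        rw [hKS]
        have e1 : l⁻¹ * (l * D.x0 * l⁻¹) * l = D.x0 := by group
        rw [e1]
        exact D.x0_Sg
      have h4 := (((memL' _).1 (hKL h3)).2 _).1 hx
      have e2 : (l * D.x0 * l⁻¹)⁻¹ * (l * x * l⁻¹) * (l * D.x0 * l⁻¹) = l * (D.x0⁻¹ * x * D.x0) * l⁻¹ := by group
      rw [e2] at h4
      exact h4
    · intro x hx
      rw [mem_cj]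
      apply D.U_le_N
      rw [hlU]
      have e1 : l⁻¹ * (l * x * l⁻¹) * l = x := by group
      rw [e1]
      exact hx
    · intro x hx hxU e he
      rw [mem_cj] at hx
      have hx' : l * x * l⁻¹ ∉ D.U := by
        rw [hlU]
        have e1 : l⁻¹ * (l * x * l⁻¹) * l = x := by group
        rw [e1]
        exact hxU
      have he' : l * e * l⁻¹ ∈ D.U := by
        rw [hlU]
        have e1 : l⁻¹ * (l * e * l⁻¹) * l = e := by group
        rw [e1]
        exact he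
      have key : x * e = e * x ↔ (l * x * l⁻¹) * (l * e * l⁻¹) = (l * e * l⁻¹) * (l * x * l⁻¹) := by
        have e1 : (l * x * l⁻¹) * (l * e * l⁻¹) = l * (x * e) * l⁻¹ := by group
        have e2 : (l * e * l⁻¹) * (l * x * l⁻¹) = l * (e * x) * l⁻¹ := by group
        rw [e1, e2]
        exact ⟨fun h => by rw [h], fun h => mul_left_cancel (mul_right_cancel h)⟩
      rw [key]
      constructor
      · intro h
        refine ⟨?_, he'⟩
        -- an element of `U` commuting with an element of `N` outside `U`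
        obtain ⟨n, hn⟩ := mem_N_iff_eta.1 hx
        have hn2 : n.2 ≠ 0 := fun h => hx' ((hn.mem_U_iff h1).2 h)
        obtain ⟨f, hf, hxe⟩ := hn
        obtain ⟨e0, he0⟩ := (D.mem_U).1 he'
        rw [hxe, he0] at h
        have h5 : D.vab n.2 * D.uu e0 = D.uu e0 * D.vab n.2 := by
          have h6 : D.uu f * (D.vab n.2 * D.uu e0) = D.uu f * (D.uu e0 * D.vab n.2) := by
            rw [← mul_assoc, h, ← mul_assoc, ← mul_assoc, uu_comm]
          exact mul_left_cancel h6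
        have h7 := vab_comm_uu h1 hn2 h5
        rw [he0]
        exact (mem_Vs_iff h1 (m := (e0.2.2.2, 0)) ⟨e0, rfl, by rw [vab_zero, mul_one]⟩).2 h7
      · intro h
        exact (W_central h1 h.1 h.2 hx).symm
    · intro x
      rw [mem_cj]
      constructor
      · intro h
        refine ⟨?_, h⟩
        have h2 := (hlU _).1 h.2
        have e1 : l⁻¹ * (l * x * l⁻¹) * l = x := by group
        rwa [e1] at h2
      · exact fun h => h.2
  · obtain ⟨l, hl, hlX⟩ := sylow_conj (p := 3) hXL' hTL' (IsPGroup.of_card hXc) (card_Tg h1) h10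
    obtain ⟨hlU, hlN⟩ := (memL' l).1 hl
    have hle : cj D.Vs l ≤ D.N := by
      intro y hy
      rw [mem_cj] at hy
      have h2 := (hlN _).1 (D.Vs_le_N hy)
      have e1 : l⁻¹ * (l * y * l⁻¹) * l = y := by group
      rwa [e1] at h2
    have hne : cj D.Vs l ≠ D.U := by
      intro h
      apply Vs_ne_U h1
      ext y
      have h2 : l⁻¹ * y * l ∈ cj D.Vs l ↔ l⁻¹ * y * l ∈ D.U := by rw [h]
      rw [mem_cj] at h2
      have e1 : l * (l⁻¹ * y * l) * l⁻¹ = y := by group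
      rw [e1, ← hlU] at h2
      exact h2
    obtain ⟨t, ht, h2⟩ := ab_conj h1 hle (hcjab _ _ (fun x hx y hy => Vs_comm hx hy))
      (by rw [card_cj, card_Vs h1]) hne
    have hm : ∀ x ∈ X, t⁻¹ * (l⁻¹ * x * l) * t ∈ D.N := by
      intro x hx
      refine mem_N_of_norm h1 (D.Tg_le_Sg (D.Tg.mul_mem (D.Tg.mul_mem (D.Tg.inv_mem ht) (hlX x hx)) ht)) ?_
      intro v hv
      -- `v = (w)^(l t)` with `w ∈ V`
      have k1 : l * (t * v * t⁻¹) * l⁻¹ ∈ D.Vs := by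
        rw [← mem_cj, h2]
        have e1 : t⁻¹ * (t * v * t⁻¹) * t = v := by group
        rw [e1]
        exact hv
      have k2 := (hXV x hx _).1 k1
      have k3 : l⁻¹ * (x⁻¹ * (l * (t * v * t⁻¹) * l⁻¹) * x) * l ∈ cj D.Vs l := by
        rw [mem_cj]
        have e1 : l * (l⁻¹ * (x⁻¹ * (l * (t * v * t⁻¹) * l⁻¹) * x) * l) * l⁻¹ =
          x⁻¹ * (l * (t * v * t⁻¹) * l⁻¹) * x := by group
        rw [e1]
        exact k2
      have k4 := (h2 _).1 k3
      have e2 : t⁻¹ * (l⁻¹ * (x⁻¹ * (l * (t * v * t⁻¹) * l⁻¹) * x) * l) * t =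
        (t⁻¹ * (l⁻¹ * x * l) * t)⁻¹ * v * (t⁻¹ * (l⁻¹ * x * l) * t) := by group
      rw [e2] at k4
      exact k4
    have hinj : Function.Injective (fun x : X => (⟨t⁻¹ * (l⁻¹ * x * l) * t, hm x x.2⟩ : D.N)) := by
      intro x y hxy
      have h3 : t⁻¹ * (l⁻¹ * (x : G) * l) * t = t⁻¹ * (l⁻¹ * y * l) * t := congrArg Subtype.val hxy
      exact Subtype.ext (mul_left_cancel (mul_right_cancel (mul_left_cancel (mul_right_cancel h3))))
    have h4 := Nat.card_le_card_of_injective _ hinj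
    rw [hXc, card_N h1] at h4
    norm_num at h4

end Dat

end Cfsg.Agent.H777.Th3
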