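import Cfsg.Agent.H777.Th3.Lit

/-!
# Relations in a Sylow 3-subgroup of the Thompson group, part S1 (helper777)
-/

set_option autoImplicit false
set_option Elab.async false
set_option maxRecDepth 100000

namespace Cfsg.Agent.H777.Th3

open Cfsg.Agent.Th.Words248 Cfsg.Agent.Th.Gen248

theorem ck_S1_1 : chkR [((.pow (.at .u1) 3), .one)] = true := by decide +kernel

theorem ck_S1_2 : chkR [((.pow (.at .u2) 3), .one)] = true := by decide +kernel

theorem ck_S1_3 : chkR [((.pow (.at .u3) 3), .one)] = true := by decide +kernel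

theorem ck_S1_4 : chkR [((.pow (.at .u4) 3), .one)] = true := by decide +kernel

theorem ck_S1_5 : chkR [((.pow (.at .u5) 3), .one)] = true := by decide +kernel

theorem ck_S1_6 : chkR [((.mul (.at .u1) (.at .u2)), (.mul (.at .u2) (.at .u1)))] = true := by decide +kernel

theorem ck_S1_7 : chkR [((.mul (.at .u1) (.at .u3)), (.mul (.at .u3) (.at .u1)))] = true := by decide +kernel

theorem ck_S1_8 : chkR [((.mul (.at .u1) (.at .u4)), (.mul (.at .u4) (.at .u1)))] = true := by decide +kernel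

theorem ck_S1_9 : chkR [((.mul (.at .u1) (.at .u5)), (.mul (.at .u5) (.at .u1)))] = true := by decide +kernel

theorem ck_S1_10 : chkR [((.mul (.at .u2) (.at .u3)), (.mul (.at .u3) (.at .u2)))] = true := by decide +kernel

theorem ck_S1_11 : chkR [((.mul (.at .u2) (.at .u4)), (.mul (.at .u4) (.at .u2)))] = true := by decide +kernel

theorem ck_S1_12 : chkR [((.mul (.at .u2) (.at .u5)), (.mul (.at .u5) (.at .u2)))] = true := by decide +kernel

theorem ck_S1_13 : chkR [((.mul (.at .u3) (.at .u4)), (.mul (.at .u4) (.at .u3)))] = true := by decide +kernel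

theorem ck_S1_14 : chkR [((.mul (.at .u3) (.at .u5)), (.mul (.at .u5) (.at .u3)))] = true := by decide +kernel

theorem ck_S1_15 : chkR [((.mul (.at .u4) (.at .u5)), (.mul (.at .u5) (.at .u4)))] = true := by decide +kernel

theorem ck_S1_16 : chkR [((.mul (.at .u1) (.at .v1)), (.mul (.at .v1) (.at .u1)))] = true := by decide +kernel

theorem ck_S1_17 : chkR [((.mul (.at .u2) (.at .v1)), (.mul (.at .v1) (.at .u2)))] = true := by decide +kernel

theorem ck_S1_18 : chkR [((.mul (.at .u3) (.at .v1)), (.mul (.at .v1) (.at .u3)))] = true := by decide +kernel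

theorem ck_S1_19 : chkR [((.mul (.at .u4) (.at .v1)), (.mul (.mul (.at .v1) (.pow (.at .u1) 2)) (.at .u4)))] = true := by decide +kernel

theorem ck_S1_20 : chkR [((.mul (.at .u5) (.at .v1)), (.mul (.mul (.mul (.at .v1) (.pow (.at .u1) 2)) (.pow (.at .u2) 2)) (.at .u5)))] = true := by decide +kernel

theorem ck_S1_21 : chkR [((.mul (.at .u1) (.at .v2)), (.mul (.at .v2) (.at .u1)))] = true := by decide +kernel

theorem ck_S1_22 : chkR [((.mul (.at .u2) (.at .v2)), (.mul (.at .v2) (.at .u2)))] = true := by decide +kernel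

theorem ck_S1_23 : chkR [((.mul (.at .u3) (.at .v2)), (.mul (.at .v2) (.at .u3)))] = true := by decide +kernel

theorem ck_S1_24 : chkR [((.mul (.at .u4) (.at .v2)), (.mul (.mul (.at .v2) (.at .u2)) (.at .u4)))] = true := by decide +kernel

theorem ck_S1_25 : chkR [((.mul (.at .u5) (.at .v2)), (.mul (.mul (.mul (.at .v2) (.at .u1)) (.pow (.at .u2) 2)) (.at .u5)))] = true := by decide +kernel

theorem ck_S1_26 : chkR [((.mul (.at .u1) (.at .r1)), (.mul (.at .r1) (.at .u1)))] = true := by decide +kernel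

theorem ck_S1_27 : chkR [((.mul (.at .u2) (.at .r1)), (.mul (.at .r1) (.at .u2)))] = true := by decide +kernel

theorem ck_S1_28 : chkR [((.mul (.at .u3) (.at .r1)), (.mul (.mul (.at .r1) (.pow (.at .u1) 2)) (.at .u3)))] = true := by decide +kernel

theorem ck_S1_29 : chkR [((.mul (.at .u4) (.at .r1)), (.mul (.at .r1) (.at .u4)))] = true := by decide +kernel

theorem ck_S1_30 : chkR [((.mul (.at .u5) (.at .r1)), (.mul (.mul (.at .r1) (.at .u1)) (.at .u5)))] = true := by decide +kernel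

theorem ck_S1_31 : chkR [((.mul (.at .u1) (.at .r2)), (.mul (.at .r2) (.at .u1)))] = true := by decide +kernel

theorem ck_S1_32 : chkR [((.mul (.at .u2) (.at .r2)), (.mul (.at .r2) (.at .u2)))] = true := by decide +kernel

theorem ck_S1_33 : chkR [((.mul (.at .u3) (.at .r2)), (.mul (.mul (.mul (.at .r2) (.pow (.at .u1) 2)) (.pow (.at .u2) 2)) (.at .u3)))] = true := by decide +kernel

theorem ck_S1_34 : chkR [((.mul (.at .u4) (.at .r2)), (.mul (.mul (.at .r2) (.pow (.at .u1) 2)) (.at .u4)))] = true := by decide +kernel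

theorem ck_S1_35 : chkR [((.mul (.at .u5) (.at .r2)), (.mul (.mul (.at .r2) (.at .u2)) (.at .u5)))] = true := by decide +kernel

theorem ck_S1_36 : chkR [((.mul (.at .u1) (.at .x0)), (.mul (.at .x0) (.at .u1)))] = true := by decide +kernel

theorem ck_S1_37 : chkR [((.mul (.at .u2) (.at .x0)), (.mul (.mul (.at .x0) (.at .u1)) (.at .u2)))] = true := by decide +kernel

theorem ck_S1_38 : chkR [((.mul (.at .u3) (.at .x0)), (.mul (.mul (.mul (.at .x0) (.at .u1)) (.at .u3)) (.at .u4)))] = true := by decide +kernel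

/-- relations, part S1 -/
def rlS1 : List (Rw × Rw) := [
  ((.pow (.at .u1) 3), .one),
  ((.pow (.at .u2) 3), .one),
  ((.pow (.at .u3) 3), .one),
  ((.pow (.at .u4) 3), .one),
  ((.pow (.at .u5) 3), .one),
  ((.mul (.at .u1) (.at .u2)), (.mul (.at .u2) (.at .u1))),
  ((.mul (.at .u1) (.at .u3)), (.mul (.at .u3) (.at .u1))),
  ((.mul (.at .u1) (.at .u4)), (.mul (.at .u4) (.at .u1))),
  ((.mul (.at .u1) (.at .u5)), (.mul (.at .u5) (.at .u1))),
  ((.mul (.at .u2) (.at .u3)), (.mul (.at .u3) (.at .u2))),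
  ((.mul (.at .u2) (.at .u4)), (.mul (.at .u4) (.at .u2))),
  ((.mul (.at .u2) (.at .u5)), (.mul (.at .u5) (.at .u2))),
  ((.mul (.at .u3) (.at .u4)), (.mul (.at .u4) (.at .u3))),
  ((.mul (.at .u3) (.at .u5)), (.mul (.at .u5) (.at .u3))),
  ((.mul (.at .u4) (.at .u5)), (.mul (.at .u5) (.at .u4))),
  ((.mul (.at .u1) (.at .v1)), (.mul (.at .v1) (.at .u1))),
  ((.mul (.at .u2) (.at .v1)), (.mul (.at .v1) (.at .u2))),
  ((.mul (.at .u3) (.at .v1)), (.mul (.at .v1) (.at .u3))),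
  ((.mul (.at .u4) (.at .v1)), (.mul (.mul (.at .v1) (.pow (.at .u1) 2)) (.at .u4))),
  ((.mul (.at .u5) (.at .v1)), (.mul (.mul (.mul (.at .v1) (.pow (.at .u1) 2)) (.pow (.at .u2) 2)) (.at .u5))),
  ((.mul (.at .u1) (.at .v2)), (.mul (.at .v2) (.at .u1))),
  ((.mul (.at .u2) (.at .v2)), (.mul (.at .v2) (.at .u2))),
  ((.mul (.at .u3) (.at .v2)), (.mul (.at .v2) (.at .u3))),
  ((.mul (.at .u4) (.at .v2)), (.mul (.mul (.at .v2) (.at .u2)) (.at .u4))),
  ((.mul (.at .u5) (.at .v2)), (.mul (.mul (.mul (.at .v2) (.at .u1)) (.pow (.at .u2) 2)) (.at .u5))),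
  ((.mul (.at .u1) (.at .r1)), (.mul (.at .r1) (.at .u1))),
  ((.mul (.at .u2) (.at .r1)), (.mul (.at .r1) (.at .u2))),
  ((.mul (.at .u3) (.at .r1)), (.mul (.mul (.at .r1) (.pow (.at .u1) 2)) (.at .u3))),
  ((.mul (.at .u4) (.at .r1)), (.mul (.at .r1) (.at .u4))),
  ((.mul (.at .u5) (.at .r1)), (.mul (.mul (.at .r1) (.at .u1)) (.at .u5))),
  ((.mul (.at .u1) (.at .r2)), (.mul (.at .r2) (.at .u1))),
  ((.mul (.at .u2) (.at .r2)), (.mul (.at .r2) (.at .u2))),
  ((.mul (.at .u3) (.at .r2)), (.mul (.mul (.mul (.at .r2) (.pow (.at .u1) 2)) (.pow (.at .u2) 2)) (.at .u3))),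
  ((.mul (.at .u4) (.at .r2)), (.mul (.mul (.at .r2) (.pow (.at .u1) 2)) (.at .u4))),
  ((.mul (.at .u5) (.at .r2)), (.mul (.mul (.at .r2) (.at .u2)) (.at .u5))),
  ((.mul (.at .u1) (.at .x0)), (.mul (.at .x0) (.at .u1))),
  ((.mul (.at .u2) (.at .x0)), (.mul (.mul (.at .x0) (.at .u1)) (.at .u2))),
  ((.mul (.at .u3) (.at .x0)), (.mul (.mul (.mul (.at .x0) (.at .u1)) (.at .u3)) (.at .u4)))]

theorem ck_S1 : chkR rlS1 = true :=
  chkR_append ck_S1_1 (chkR_append ck_S1_2 (chkR_append ck_S1_3 (chkR_append ck_S1_4 (chkR_append ck_S1_5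
   (chkR_append ck_S1_6 (chkR_append ck_S1_7 (chkR_append ck_S1_8 (chkR_append ck_S1_9 (chkR_append ck_S1_10
   (chkR_append ck_S1_11 (chkR_append ck_S1_12 (chkR_append ck_S1_13 (chkR_append ck_S1_14 (chkR_append
   ck_S1_15 (chkR_append ck_S1_16 (chkR_append ck_S1_17 (chkR_append ck_S1_18 (chkR_append ck_S1_19
   (chkR_append ck_S1_20 (chkR_append ck_S1_21 (chkR_append ck_S1_22 (chkR_append ck_S1_23 (chkR_append
   ck_S1_24 (chkR_append ck_S1_25 (chkR_append ck_S1_26 (chkR_append ck_S1_27 (chkR_append ck_S1_28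
   (chkR_append ck_S1_29 (chkR_append ck_S1_30 (chkR_append ck_S1_31 (chkR_append ck_S1_32 (chkR_append
   ck_S1_33 (chkR_append ck_S1_34 (chkR_append ck_S1_35 (chkR_append ck_S1_36 (chkR_append ck_S1_37
   (ck_S1_38)))))))))))))))))))))))))))))))))))))

end Cfsg.Agent.H777.Th3
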