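import Cfsg.Agent.H777.Th3.LitKnown
import Cfsg.Agent.H777.Th3.RelCkS1
import Cfsg.Agent.H777.Th3.RelCkS2
import Cfsg.Agent.H777.Th3.RelCkM1
import Cfsg.Agent.H777.Th3.RelCkG1
import Cfsg.Agent.H777.Th3.RelCkNe

/-!
# Relations in a Sylow 3-subgroup of the Thompson group, checked on 248 × 248 matrices (helper777)

The checks are in the files `RelCkS1`, ..., `RelCkNe`, on the stored values of the words (`Lit`, memory).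
-/

set_option autoImplicit false
set_option maxRecDepth 100000

namespace Cfsg.Agent.H777.Th3

open Cfsg.Agent.Th.Words248 Cfsg.Agent.Th.Gen248

/-- relations, part S -/
def relsS : List (Wd × Wd) := [
  ((.pow w_u1 3), .one),
  ((.pow w_u2 3), .one),
  ((.pow w_u3 3), .one),
  ((.pow w_u4 3), .one),
  ((.pow w_u5 3), .one),
  ((.mul w_u1 w_u2), (.mul w_u2 w_u1)),
  ((.mul w_u1 w_u3), (.mul w_u3 w_u1)),
  ((.mul w_u1 w_u4), (.mul w_u4 w_u1)),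
  ((.mul w_u1 w_u5), (.mul w_u5 w_u1)),
  ((.mul w_u2 w_u3), (.mul w_u3 w_u2)),
  ((.mul w_u2 w_u4), (.mul w_u4 w_u2)),
  ((.mul w_u2 w_u5), (.mul w_u5 w_u2)),
  ((.mul w_u3 w_u4), (.mul w_u4 w_u3)),
  ((.mul w_u3 w_u5), (.mul w_u5 w_u3)),
  ((.mul w_u4 w_u5), (.mul w_u5 w_u4)),
  ((.mul w_u1 w_v1), (.mul w_v1 w_u1)),
  ((.mul w_u2 w_v1), (.mul w_v1 w_u2)),
  ((.mul w_u3 w_v1), (.mul w_v1 w_u3)),
  ((.mul w_u4 w_v1), (.mul (.mul w_v1 (.pow w_u1 2)) w_u4)),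
  ((.mul w_u5 w_v1), (.mul (.mul (.mul w_v1 (.pow w_u1 2)) (.pow w_u2 2)) w_u5)),
  ((.mul w_u1 w_v2), (.mul w_v2 w_u1)),
  ((.mul w_u2 w_v2), (.mul w_v2 w_u2)),
  ((.mul w_u3 w_v2), (.mul w_v2 w_u3)),
  ((.mul w_u4 w_v2), (.mul (.mul w_v2 w_u2) w_u4)),
  ((.mul w_u5 w_v2), (.mul (.mul (.mul w_v2 w_u1) (.pow w_u2 2)) w_u5)),
  ((.mul w_u1 w_r1), (.mul w_r1 w_u1)),
  ((.mul w_u2 w_r1), (.mul w_r1 w_u2)),
  ((.mul w_u3 w_r1), (.mul (.mul w_r1 (.pow w_u1 2)) w_u3)),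
  ((.mul w_u4 w_r1), (.mul w_r1 w_u4)),
  ((.mul w_u5 w_r1), (.mul (.mul w_r1 w_u1) w_u5)),
  ((.mul w_u1 w_r2), (.mul w_r2 w_u1)),
  ((.mul w_u2 w_r2), (.mul w_r2 w_u2)),
  ((.mul w_u3 w_r2), (.mul (.mul (.mul w_r2 (.pow w_u1 2)) (.pow w_u2 2)) w_u3)),
  ((.mul w_u4 w_r2), (.mul (.mul w_r2 (.pow w_u1 2)) w_u4)),
  ((.mul w_u5 w_r2), (.mul (.mul w_r2 w_u2) w_u5)),
  ((.mul w_u1 w_x0), (.mul w_x0 w_u1)),
  ((.mul w_u2 w_x0), (.mul (.mul w_x0 w_u1) w_u2)),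
  ((.mul w_u3 w_x0), (.mul (.mul (.mul w_x0 w_u1) w_u3) w_u4)),
  ((.mul w_u4 w_x0), (.mul (.mul (.mul (.mul w_x0 (.pow w_u2 2)) (.pow w_u3 2)) (.pow w_u4 2)) (.pow w_u5 2))),
  ((.mul w_u5 w_x0), (.mul (.mul (.mul w_x0 w_u1) (.pow w_u2 2)) (.pow w_u3 2))),
  ((.pow w_v1 3), .one),
  ((.pow w_v2 3), .one),
  ((.pow w_r1 3), .one),
  ((.pow w_r2 3), w_u1),
  ((.pow w_x0 3), .one),
  ((.mul w_v1 w_v2), (.mul w_v2 w_v1)),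
  ((.mul w_v1 w_r1), (.mul (.mul (.mul (.mul w_r1 (.pow w_u1 2)) (.pow w_u3 2)) w_u4) w_v1)),
  ((.mul w_v1 w_r2), (.mul (.mul (.mul (.mul (.mul w_r2 (.pow w_u1 2)) (.pow w_u2 2)) (.pow w_u3 2)) (.pow w_u5 2)) w_v1)),
  ((.mul w_v1 w_x0), (.mul (.mul (.mul (.mul (.mul (.mul w_x0 w_u1) (.pow w_u2 2)) w_u4) (.pow w_v2 2)) (.pow w_r1 2)) (.pow w_r2 2))),
  ((.mul w_v2 w_r1), (.mul (.mul (.mul (.mul (.mul w_r1 w_u1) (.pow w_u2 2)) w_u4) (.pow w_u5 2)) w_v2)),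
  ((.mul w_v2 w_r2), (.mul (.mul (.mul (.mul (.mul w_r2 w_u1) (.pow w_u3 2)) (.pow w_u4 2)) (.pow w_u5 2)) w_v2)),
  ((.mul w_v2 w_x0), (.mul (.mul (.mul (.mul (.mul (.mul (.mul w_x0 (.pow w_u2 2)) w_u4) w_u5) w_v1) (.pow w_v2 2)) w_r1) (.pow w_r2 2))),
  ((.mul w_r1 w_r2), (.mul (.mul (.mul (.mul w_r2 w_u3) (.pow w_u4 2)) w_u5) w_r1)),
  ((.mul w_r1 w_x0), (.mul (.mul (.mul (.mul w_x0 w_u2) w_u3) w_u5) w_r1)),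
  ((.mul w_r2 w_x0), (.mul (.mul (.mul (.mul (.mul w_x0 w_u1) w_u3) (.pow w_u4 2)) w_u5) w_r2))]

theorem relsS_eq : relsS = ((rlS1 ++ rlS2)).map (fun p => (toWd p.1, toWd p.2)) := rfl

theorem ck_S : chkL relsS = true := by
  rw [relsS_eq]
  exact chkL_of known (chkR_append ck_S1 ck_S2)

/-- relations, part m -/
def relsm : List (Wd × Wd) := [
  ((.mul w_u1 w_m2), (.mul w_m2 (.pow w_u2 2))),
  ((.mul w_u2 w_m2), (.mul w_m2 w_u1)),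
  ((.mul w_u3 w_m2), (.mul w_m2 (.pow w_u3 2))),
  ((.mul w_u4 w_m2), (.mul w_m2 (.pow w_u4 2))),
  ((.mul w_u5 w_m2), (.mul w_m2 w_u5)),
  ((.mul w_v1 w_m2), (.mul (.mul w_m2 w_u2) (.pow w_v2 2))),
  ((.mul w_v2 w_m2), (.mul (.mul (.mul w_m2 w_u1) (.pow w_u3 2)) w_v1)),
  ((.mul w_r1 w_m2), (.mul (.mul (.mul (.mul (.mul (.mul (.mul w_m2 (.pow w_u1 2)) w_u2) w_u3) w_u4) (.pow w_v1 2)) (.pow w_r1 2)) w_r2)),
  ((.mul w_u1 w_m1), (.mul w_m1 (.pow w_u1 2))),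
  ((.mul w_u2 w_m1), (.mul (.mul (.mul (.mul w_m1 (.pow w_u2 2)) (.pow w_u3 2)) w_u4) (.pow w_u5 2))),
  ((.mul w_u4 w_m1), (.mul w_m1 w_u4)),
  ((.mul w_u5 w_m1), (.mul (.mul (.mul (.mul (.mul w_m1 w_u1) w_u2) (.pow w_u3 2)) w_u4) w_r1)),
  ((.mul w_r1 w_m1), (.mul w_m1 (.pow w_r1 2))),
  ((.mul w_r2 w_m1), (.mul (.mul w_m1 w_u4) (.pow w_r2 2))),
  ((.mul (.mul w_v1 w_v2) w_m1), (.mul (.mul (.mul (.mul (.mul w_m1 w_u1) w_u3) (.pow w_r1 2)) (.pow w_r2 2)) w_x0))]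

theorem relsm_eq : relsm = (rlm1).map (fun p => (toWd p.1, toWd p.2)) := rfl

theorem ck_m : chkL relsm = true := by
  rw [relsm_eq]
  exact chkL_of known ck_m1

/-- relations, part g -/
def relsg : List (Wd × Wd) := [
  ((.mul w_u1 w_gg), (.mul (.mul (.mul w_gg (.pow w_u2 2)) (.pow w_u3 2)) (.pow w_v1 2))),
  ((.mul w_u2 w_gg), (.mul (.mul (.mul w_gg (.pow w_u1 2)) w_u3) w_v2)),
  ((.mul w_u3 w_gg), (.mul w_gg w_u3)),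
  ((.mul w_v1 w_gg), (.mul (.mul (.mul (.mul w_gg w_u2) w_u3) w_v1) w_v2)),
  ((.mul w_v2 w_gg), (.mul (.mul (.mul (.mul w_gg w_u1) (.pow w_u3 2)) w_v1) (.pow w_v2 2)))]

theorem relsg_eq : relsg = (rlg1).map (fun p => (toWd p.1, toWd p.2)) := rfl

theorem ck_g : chkL relsg = true := by
  rw [relsg_eq]
  exact chkL_of known ck_g1

end Cfsg.Agent.H777.Th3
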